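import Mathlib.Data.List.Basic

/-! Generated data: a basis of the vectors fixed by the chosen permutation of order three, dual
vectors modulo 2, witnesses for the traces of the generators, and the short fixed vectors. -/

set_option autoImplicit false
set_option maxRecDepth 100000

namespace CfsgLib.MonsterCent13.Three.Data

/-- basis -/
def fixRows : List (List Int) := [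
  [6,6,6,6,6,0,4,2,4,4,2,4,2,4,0,0,4,0,4,4,0,4,0,0],
  [0,6,6,6,6,6,0,4,2,4,4,2,4,2,4,0,0,4,4,4,0,0,0,4],
  [6,6,0,0,0,6,2,4,4,2,4,4,4,4,2,4,2,2,2,2,4,2,4,2],
  [0,6,6,0,0,0,6,4,4,0,4,4,4,4,4,2,6,4,0,0,2,6,2,4],
  [6,6,0,0,6,0,2,2,4,2,2,4,2,4,4,4,2,4,2,2,4,2,4,4],
  [0,0,0,6,6,6,2,4,2,0,4,2,4,2,0,2,2,0,0,0,2,2,2,0],
  [0,0,0,0,6,6,4,2,4,0,2,4,2,4,2,0,4,2,0,0,0,4,0,2],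
  [6,6,6,6,6,0,0,6,0,0,6,0,6,0,0,0,0,0,0,0,0,0,0,0],
  [0,6,6,6,6,6,0,0,6,0,0,6,0,6,0,0,0,0,0,0,0,0,0,0],
  [6,0,6,0,6,6,2,2,2,0,2,2,2,2,2,0,2,2,0,0,0,2,0,2],
  [24,0,0,0,0,0,0,0,0,0,0,0,0,0,0,0,0,0,0,0,0,0,0,0],
  [-9,3,3,3,3,3,3,3,3,3,3,3,3,3,3,3,3,3,3,3,3,3,3,3]]

/-- dual vectors -/
def dualRows : List (List Int) := [
  [34,42,36,30,38,18,24,22,20,32,24,16,22,32,24,12,18,22,12,12,2,4,6,2],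
  [34,44,38,32,40,20,24,22,22,32,24,18,22,34,24,12,18,22,12,12,2,4,6,2],
  [12,18,18,14,18,8,12,10,8,14,12,6,10,14,10,4,8,10,6,6,0,2,2,2],
  [2,2,0,0,0,2,0,0,0,2,2,2,2,2,2,2,2,0,0,0,2,0,0,0],
  [22,36,32,26,32,16,20,18,16,26,22,14,20,28,20,10,16,18,10,10,2,4,4,2],
  [38,46,36,30,40,20,26,24,22,36,26,20,24,34,28,16,20,24,12,12,4,4,8,2],
  [50,68,60,48,60,30,40,34,30,52,42,26,38,54,40,20,32,36,20,20,4,8,8,4],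
  [2,2,0,0,2,4,2,2,2,2,2,4,2,2,4,2,4,0,0,0,2,0,0,0],
  [38,48,40,36,46,26,30,26,26,36,28,22,26,40,28,16,24,22,14,12,4,4,6,2],
  [58,78,70,60,74,32,50,42,38,60,46,26,44,62,42,22,36,40,26,22,2,8,10,4],
  [21,39,37,33,41,19,29,23,23,29,23,15,23,33,21,11,21,19,15,11,1,5,5,3],
  [60,84,72,60,76,36,48,44,40,64,48,32,44,64,48,24,36,44,24,24,4,8,12,4]]

/-- coordinates of the traces -/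
def traceCode : List Nat := [
  1024,
  1024,
  2519,
  1495,
  129,
  1066,
  1561,
  1449,
  869,
  1411,
  716,
  1150,
  1968,
  716,
  1150,
  716,
  1150,
  1024,
  296,
  1411,
  1024,
  1968,
  1968,
  296,
  1411,
  296,
  1,
  2,
  1490,
  1555,
  1956,
  1636,
  1361,
  1943,
  1176,
  1539,
  1540,
  16,
  528,
  1516,
  838,
  1699,
  1900,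
  802,
  1770,
  152,
  1835,
  75,
  1806]

/-- halved differences -/
def traceDiff : List (List Int) := [
  [-12,0,0,0,0,0,0,0,0,0,0,0,0,0,4,0,0,4,0,0,0,0,0,4],
  [-9,3,3,3,3,3,3,3,3,3,3,3,3,3,3,3,3,3,3,3,3,3,3,3],
  [-6,-18,-12,-12,-18,-12,-6,-10,-12,-6,-10,-12,-10,-12,-8,-4,-6,-8,-6,-6,-4,-6,-4,-8],
  [-18,-18,-12,-12,-18,-12,-6,-10,-12,-6,-10,-12,-10,-12,-4,-4,-6,-4,-6,-6,-4,-6,-4,-4],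
  [-6,0,-6,-6,-6,0,-2,-4,-2,-2,-4,-2,-4,-2,2,0,-2,2,-2,-2,0,-2,0,2],
  [-12,-6,0,-6,-6,-6,-4,-6,-4,-2,-6,-4,-6,-4,-2,-2,-4,-2,-2,-2,-2,-4,-2,-2],
  [-21,-9,-9,3,-9,-3,-7,-5,-7,-3,-5,-7,-5,-7,-3,-3,-7,-3,-3,-3,-3,-7,-3,-3],
  [-18,-12,-12,-12,-6,-6,-6,-8,-8,-2,-8,-8,-8,-8,0,-2,-6,0,-2,-2,-2,-6,-2,0],
  [-9,-9,-9,-9,-15,-9,-7,-7,-11,-3,-7,-11,-7,-11,-1,-3,-7,-1,-3,-3,-3,-7,-3,-1],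
  [-18,-12,-12,-12,-12,-6,0,-6,-6,-4,-6,-6,-6,-6,0,0,0,0,-4,-4,0,0,0,0],
  [-9,-9,-9,-3,-9,-9,-7,-7,-7,-1,-7,-7,-7,-7,-3,-3,-7,-3,-1,-1,-3,-7,-3,-3],
  [-18,-12,-6,-6,-12,-12,-8,-10,-8,-4,-10,-8,-10,-8,-6,-6,-8,-6,-4,-4,-6,-8,-6,-6],
  [-21,-9,-9,-9,-15,-9,-3,-7,-7,1,-7,-7,-7,-7,-1,-3,-3,-1,1,1,-3,-3,-3,-1],
  [-9,-9,-9,-3,-9,-9,-7,-7,-7,-1,-7,-7,-7,-7,-3,-3,-7,-3,-1,-1,-3,-7,-3,-3],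
  [-18,-12,-6,-6,-12,-12,-8,-10,-8,-4,-10,-8,-10,-8,-6,-6,-8,-6,-4,-4,-6,-8,-6,-6],
  [-9,-9,-9,-3,-9,-9,-7,-7,-7,-1,-7,-7,-7,-7,-3,-3,-7,-3,-1,-1,-3,-7,-3,-3],
  [-18,-12,-6,-6,-12,-12,-8,-10,-8,-4,-10,-8,-10,-8,-6,-6,-8,-6,-4,-4,-6,-8,-6,-6],
  [-12,0,0,0,0,0,0,0,0,0,0,0,0,0,4,0,0,4,0,0,0,0,0,4],
  [0,-6,-6,-6,-6,-6,-4,-4,-6,0,-4,-6,-4,-6,0,0,-4,0,0,0,0,-4,0,0],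
  [-18,-12,-12,-12,-12,-6,0,-6,-6,-4,-6,-6,-6,-6,0,0,0,0,-4,-4,0,0,0,0],
  [-12,0,0,0,0,0,0,0,0,0,0,0,0,0,4,0,0,4,0,0,0,0,0,4],
  [-21,-9,-9,-9,-15,-9,-3,-7,-7,1,-7,-7,-7,-7,-1,-3,-3,-1,1,1,-3,-3,-3,-1],
  [-21,-9,-9,-9,-15,-9,-3,-7,-7,1,-7,-7,-7,-7,-1,-3,-3,-1,1,1,-3,-3,-3,-1],
  [0,-6,-6,-6,-6,-6,-4,-4,-6,0,-4,-6,-4,-6,0,0,-4,0,0,0,0,-4,0,0],
  [-18,-12,-12,-12,-12,-6,0,-6,-6,-4,-6,-6,-6,-6,0,0,0,0,-4,-4,0,0,0,0],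
  [0,-6,-6,-6,-6,-6,-4,-4,-6,0,-4,-6,-4,-6,0,0,-4,0,0,0,0,-4,0,0],
  [0,0,0,0,0,0,0,0,0,0,0,0,0,0,0,0,0,0,0,0,0,0,0,0],
  [0,0,0,0,0,0,0,0,0,0,0,0,0,0,0,0,0,0,0,0,0,0,0,0],
  [-18,-12,-6,-6,-12,-6,-2,-6,-6,-2,-6,-6,-6,-6,-4,0,-2,-4,-2,-2,0,-2,0,-4],
  [-21,-9,-9,-3,-9,-3,-1,-3,-5,-3,-3,-5,-3,-5,-5,-1,-1,-5,-3,-3,-1,-1,-1,-5],
  [-21,-9,-9,-9,-9,-9,-1,-5,-5,-1,-5,-5,-5,-5,-1,-1,-1,-1,-1,-1,-1,-1,-1,-1],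
  [-15,-3,-3,-3,-9,-9,-3,-5,-3,1,-5,-3,-5,-3,-1,-3,-3,-1,1,1,-3,-3,-3,-1],
  [-18,-6,-6,-6,-12,-6,-4,0,-8,0,0,-8,0,-8,-2,0,-4,-2,0,0,0,-4,0,-2],
  [-24,-18,-12,-12,-18,-12,-4,-8,-8,-4,-8,-8,-8,-8,-6,-2,-4,-6,-4,-4,-2,-4,-2,-6],
  [-18,-6,-6,0,-6,0,-2,-4,-2,0,-4,-2,-4,-2,-2,-2,-2,-2,0,0,-2,-2,-2,-2],
  [-18,-6,-6,-6,-6,-6,-2,-2,-2,-2,-2,-2,-2,-2,-2,2,-2,-2,-2,-2,2,-2,2,-2],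
  [-15,-3,-3,3,-3,-3,-1,-1,-1,1,-1,-1,-1,-1,-1,-1,-1,-1,1,1,-1,-1,-1,-1],
  [0,0,0,0,0,0,0,0,0,0,0,0,0,0,0,0,0,0,0,0,0,0,0,0],
  [-6,0,0,0,-6,0,0,0,-2,0,0,-2,0,-2,-2,0,0,-2,0,0,0,0,0,-2],
  [-18,-12,-6,-6,-12,-12,-4,-10,-8,0,-10,-8,-10,-8,-2,-2,-4,-2,0,0,-2,-4,-2,-2],
  [-3,-9,-9,-3,-9,-15,-3,-5,-9,-1,-5,-9,-5,-9,-3,1,-3,-3,-1,-1,1,-3,1,-3],
  [-18,-6,-12,-12,-12,-6,-2,-8,-4,-2,-8,-4,-8,-4,-2,0,-2,-2,-2,-2,0,-2,0,-2],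
  [-18,-6,-6,-6,-12,-12,-6,-8,-10,2,-8,-10,-8,-10,-4,-2,-6,-4,2,2,-2,-6,-2,-4],
  [0,-6,-6,-6,-12,-12,0,-2,-6,0,-2,-6,-2,-6,-2,0,0,-2,0,0,0,0,0,-2],
  [-18,-6,-12,-6,-12,-12,-6,-10,-4,0,-10,-4,-10,-4,-6,0,-6,-6,0,0,0,-6,0,-6],
  [-3,-9,-3,-3,-3,3,-3,-5,-3,1,-5,-3,-5,-3,-3,-1,-3,-3,1,1,-1,-3,-1,-3],
  [-15,-9,-15,-9,-15,-9,-5,-7,-9,-3,-7,-9,-7,-9,-5,1,-5,-5,-3,-3,1,-5,1,-5],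
  [0,-6,-6,-6,-6,-6,-4,-4,-6,-4,-4,-6,-4,-6,-4,0,-4,-4,-4,-4,0,-4,0,-4],
  [-15,-9,-9,-3,-9,-9,-5,-5,-7,-3,-5,-7,-5,-7,-5,-1,-5,-5,-3,-3,-1,-5,-1,-5]]

/-- short vectors with offset 8, and their coordinates -/
def shortData : List (List Nat × Nat) := [
  ([8,8,8,8,10,6,8,10,8,8,10,8,10,8,6,8,8,6,8,8,8,8,8,6],20),
  ([8,6,10,10,6,10,8,8,10,8,8,10,8,10,8,8,8,8,8,8,8,8,8,8],40),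
  ([6,10,10,6,6,8,8,6,8,8,6,8,6,8,8,8,8,8,8,8,8,8,8,8],43),
  ([6,10,10,6,8,6,8,8,8,8,8,8,8,8,6,8,8,6,8,8,8,8,8,6],63),
  ([10,8,8,8,10,8,8,8,10,8,8,10,8,10,10,8,8,10,8,8,8,8,8,10],67),
  ([10,6,10,8,10,6,8,8,8,10,8,8,8,8,8,8,8,8,10,10,8,8,8,8],96),
  ([8,10,10,6,10,6,8,8,10,8,8,10,8,10,8,8,8,8,8,8,8,8,8,8],124),
  ([12,8,8,8,4,8,8,8,8,8,8,8,8,8,8,8,8,8,8,8,8,8,8,8],126),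
  ([10,10,10,10,10,8,8,10,8,8,10,8,10,8,8,8,8,8,8,8,8,8,8,8],128),
  ([10,6,8,8,8,8,8,8,6,8,8,6,8,6,8,10,8,8,8,8,10,8,10,8],132),
  ([6,6,8,10,6,6,10,8,8,8,8,8,8,8,8,8,10,8,8,8,8,10,8,8],142),
  ([10,10,10,10,8,10,8,8,8,8,8,8,8,8,10,8,8,10,8,8,8,8,8,10],148),
  ([8,6,8,10,8,8,8,8,8,10,8,8,8,8,8,6,8,8,10,10,6,8,6,8],152),
  ([8,4,4,8,8,8,8,8,8,8,8,8,8,8,8,8,8,8,8,8,8,8,8,8],171),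
  ([6,10,6,8,6,6,8,8,8,10,8,8,8,8,8,8,8,8,10,10,8,8,8,8],181),
  ([10,10,6,10,8,10,8,8,8,8,8,8,8,8,6,8,8,6,8,8,8,8,8,6],190),
  ([8,10,10,10,6,10,8,8,6,8,8,6,8,6,8,8,8,8,8,8,8,8,8,8],215),
  ([6,8,6,10,6,10,8,8,8,8,8,8,8,8,8,6,8,8,8,8,6,8,6,8],248),
  ([8,6,6,6,6,6,8,8,6,8,8,6,8,6,8,8,8,8,8,8,8,8,8,8],256),
  ([8,10,8,8,8,6,8,10,8,8,10,8,10,8,8,6,8,8,8,8,6,8,6,8],260),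
  ([8,10,8,8,6,8,8,8,8,8,8,8,8,8,10,6,8,10,8,8,6,8,6,10],272),
  ([8,4,8,8,4,8,8,8,8,8,8,8,8,8,8,8,8,8,8,8,8,8,8,8],296),
  ([8,10,8,10,8,8,8,8,8,10,8,8,8,8,8,10,8,8,10,10,10,8,10,8],305),
  ([8,8,10,10,8,8,6,8,8,6,8,8,8,8,8,8,6,8,6,6,8,6,8,8],313),
  ([10,6,6,6,8,6,8,8,8,8,8,8,8,8,10,8,8,10,8,8,8,8,8,10],323),
  ([8,6,10,6,6,6,8,8,10,8,8,10,8,10,8,8,8,8,8,8,8,8,8,8],340),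
  ([4,4,8,8,8,8,8,8,8,8,8,8,8,8,8,8,8,8,8,8,8,8,8,8],342),
  ([8,8,8,12,8,12,8,8,8,8,8,8,8,8,8,8,8,8,8,8,8,8,8,8],380),
  ([6,8,8,8,8,10,8,6,10,8,6,10,6,10,8,8,8,8,8,8,8,8,8,8],384),
  ([8,8,12,8,4,8,8,8,8,8,8,8,8,8,8,8,8,8,8,8,8,8,8,8],387),
  ([10,8,10,10,10,10,8,8,8,8,8,8,8,8,8,10,8,8,8,8,10,8,10,8],388),
  ([10,6,8,6,10,10,10,8,8,8,8,8,8,8,8,8,10,8,8,8,8,10,8,8],396),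
  ([6,8,8,8,10,8,8,8,10,8,8,10,8,10,6,8,8,6,8,8,8,8,8,6],404),
  ([6,10,8,10,10,6,10,8,8,8,8,8,8,8,8,8,10,8,8,8,8,10,8,8],422),
  ([10,6,10,10,6,8,8,10,8,8,10,8,10,8,8,8,8,8,8,8,8,8,8,8],424),
  ([8,10,10,6,6,6,8,8,6,8,8,6,8,6,8,8,8,8,8,8,8,8,8,8],427),
  ([10,10,6,6,8,6,8,8,8,8,8,8,8,8,6,8,8,6,8,8,8,8,8,6],450),
  ([6,6,10,10,10,8,8,10,8,8,10,8,10,8,8,8,8,8,8,8,8,8,8,8],470),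
  ([6,6,8,6,10,10,6,8,8,8,8,8,8,8,8,8,6,8,8,8,8,6,8,8],472),
  ([10,10,10,6,8,6,8,8,8,8,8,8,8,8,10,8,8,10,8,8,8,8,8,10],488),
  ([6,8,8,8,10,8,8,8,6,8,8,6,8,6,10,8,8,10,8,8,8,8,8,10],490),
  ([12,8,4,8,8,8,8,8,8,8,8,8,8,8,8,8,8,8,8,8,8,8,8,8],509),
  ([8,8,10,8,6,8,10,8,8,8,8,8,8,8,6,8,10,6,8,8,8,10,8,6],515),
  ([10,10,6,8,6,10,8,8,8,10,8,8,8,8,8,8,8,8,10,10,8,8,8,8],519),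
  ([10,6,10,6,8,10,8,8,8,8,8,8,8,8,10,8,8,10,8,8,8,8,8,10],524),
  ([10,8,6,8,8,8,10,8,6,8,8,6,8,6,8,8,10,8,8,8,8,10,8,8],532),
  ([10,6,10,6,10,8,8,10,8,8,10,8,10,8,8,8,8,8,8,8,8,8,8,8],536),
  ([10,6,6,6,8,10,8,8,8,8,8,8,8,8,6,8,8,6,8,8,8,8,8,6],550),
  ([8,8,4,12,8,8,8,8,8,8,8,8,8,8,8,8,8,8,8,8,8,8,8,8],563),
  ([10,6,8,10,6,10,10,8,8,8,8,8,8,8,8,8,10,8,8,8,8,10,8,8],572),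
  ([10,8,10,8,8,8,10,8,10,8,8,10,8,10,8,8,10,8,8,8,8,10,8,8],576),
  ([10,10,8,6,6,6,6,8,8,8,8,8,8,8,8,8,6,8,8,8,8,6,8,8],578),
  ([8,10,6,10,10,6,8,8,10,8,8,10,8,10,8,8,8,8,8,8,8,8,8,8],591),
  ([10,10,8,6,10,6,10,8,8,8,8,8,8,8,8,8,10,8,8,8,8,10,8,8],616),
  ([8,8,8,10,8,6,8,6,8,10,6,8,6,8,8,8,8,8,10,10,8,8,8,8],632),
  ([6,10,6,8,10,10,8,8,8,10,8,8,8,8,8,8,8,8,10,10,8,8,8,8],633),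
  ([10,10,10,6,8,10,8,8,8,8,8,8,8,8,6,8,8,6,8,8,8,8,8,6],653),
  ([8,6,10,8,8,8,6,8,8,8,8,8,8,8,8,10,6,8,8,8,10,6,10,8],656),
  ([8,4,8,4,8,8,8,8,8,8,8,8,8,8,8,8,8,8,8,8,8,8,8,8],664),
  ([8,8,8,6,8,6,8,10,8,10,10,8,10,8,8,8,8,8,10,10,8,8,8,8],685),
  ([12,8,8,8,8,12,8,8,8,8,8,8,8,8,8,8,8,8,8,8,8,8,8,8],690),
  ([8,8,8,10,10,8,8,8,8,6,8,8,8,8,6,8,8,6,6,6,8,8,8,6],697),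
  ([6,8,10,6,6,10,8,8,8,8,8,8,8,8,8,6,8,8,8,8,6,8,6,8],715),
  ([8,8,8,8,12,12,8,8,8,8,8,8,8,8,8,8,8,8,8,8,8,8,8,8],716),
  ([6,10,6,6,6,8,8,10,8,8,10,8,10,8,8,8,8,8,8,8,8,8,8,8],717),
  ([8,10,8,8,8,6,8,6,8,8,6,8,6,8,8,10,8,8,8,8,10,8,10,8],736),
  ([10,10,8,10,10,10,10,8,8,8,8,8,8,8,8,8,10,8,8,8,8,10,8,8],788),
  ([6,8,8,6,8,8,8,8,10,10,8,10,8,10,8,8,8,8,10,10,8,8,8,8],813),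
  ([10,8,6,6,6,10,8,8,8,8,8,8,8,8,8,6,8,8,8,8,6,8,6,8],822),
  ([6,6,8,6,10,6,10,8,8,8,8,8,8,8,8,8,10,8,8,8,8,10,8,8],830),
  ([10,6,8,6,6,6,10,8,8,8,8,8,8,8,8,8,10,8,8,8,8,10,8,8],832),
  ([6,8,6,6,10,10,8,8,8,8,8,8,8,8,8,6,8,8,8,8,6,8,6,8],840),
  ([8,10,8,8,8,10,8,10,8,8,10,8,10,8,8,10,8,8,8,8,10,8,10,8],841),
  ([8,8,12,8,8,12,8,8,8,8,8,8,8,8,8,8,8,8,8,8,8,8,8,8],847),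
  ([10,10,10,8,10,6,8,8,8,6,8,8,8,8,8,8,8,8,6,6,8,8,8,8],849),
  ([8,10,10,6,10,10,8,8,6,8,8,6,8,6,8,8,8,8,8,8,8,8,8,8],871),
  ([8,8,6,8,10,8,10,8,8,8,8,8,8,8,6,8,10,6,8,8,8,10,8,6],896),
  ([8,8,10,8,8,6,6,10,8,8,10,8,10,8,8,8,6,8,8,8,8,6,8,8],916),
  ([8,6,10,6,10,10,8,8,10,8,8,10,8,10,8,8,8,8,8,8,8,8,8,8],920),
  ([8,6,8,6,8,8,8,8,8,10,8,8,8,8,8,10,8,8,10,10,10,8,10,8],937),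
  ([8,8,10,8,10,8,10,8,8,8,8,8,8,8,10,8,10,10,8,8,8,10,8,10],938),
  ([8,8,8,4,12,8,8,8,8,8,8,8,8,8,8,8,8,8,8,8,8,8,8,8],944),
  ([10,8,10,10,10,6,8,8,8,8,8,8,8,8,8,6,8,8,8,8,6,8,6,8],969),
  ([8,6,6,6,10,10,8,8,6,8,8,6,8,6,8,8,8,8,8,8,8,8,8,8],972),
  ([4,8,8,12,8,8,8,8,8,8,8,8,8,8,8,8,8,8,8,8,8,8,8,8],974),
  ([8,8,8,10,8,10,8,10,8,10,10,8,10,8,8,8,8,8,10,10,8,8,8,8],977),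
  ([6,6,10,6,8,10,8,8,8,8,8,8,8,8,6,8,8,6,8,8,8,8,8,6],987),
  ([8,4,8,8,8,12,8,8,8,8,8,8,8,8,8,8,8,8,8,8,8,8,8,8],996),
  ([10,8,6,8,8,8,6,8,10,8,8,10,8,10,8,8,6,8,8,8,8,6,8,8],1001),
  ([6,10,10,8,6,10,8,8,8,10,8,8,8,8,8,8,8,8,10,10,8,8,8,8],1018),
  ([6,8,10,6,10,6,8,8,8,8,8,8,8,8,8,6,8,8,8,8,6,8,6,8],1031),
  ([10,6,10,10,8,10,8,8,8,8,8,8,8,8,6,8,8,6,8,8,8,8,8,6],1045),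
  ([10,10,6,8,10,10,8,8,8,6,8,8,8,8,8,8,8,8,6,6,8,8,8,8],1054),
  ([10,8,8,8,8,10,8,6,6,8,6,6,6,6,8,8,8,8,8,8,8,8,8,8],1065),
  ([8,10,8,8,6,8,8,8,8,8,8,8,8,8,6,10,8,6,8,8,10,8,10,6],1080),
  ([10,8,8,8,10,8,8,8,6,8,8,6,8,6,6,8,8,6,8,8,8,8,8,6],1085),
  ([6,6,6,10,6,8,8,10,8,8,10,8,10,8,8,8,8,8,8,8,8,8,8,8],1109),
  ([10,8,10,6,6,6,8,8,8,8,8,8,8,8,8,6,8,8,8,8,6,8,6,8],1145),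
  ([10,10,8,8,8,8,8,8,10,8,8,10,8,10,8,10,8,8,8,8,10,8,10,8],1147),
  ([12,8,8,8,12,8,8,8,8,8,8,8,8,8,8,8,8,8,8,8,8,8,8,8],1150),
  ([8,6,10,6,10,6,8,8,6,8,8,6,8,6,8,8,8,8,8,8,8,8,8,8],1155),
  ([10,8,6,10,10,10,8,8,8,8,8,8,8,8,8,6,8,8,8,8,6,8,6,8],1158),
  ([8,8,6,10,8,8,10,8,8,6,8,8,8,8,8,8,10,8,6,6,8,10,8,8],1168),
  ([8,8,8,6,10,8,8,8,8,6,8,8,8,8,10,8,8,10,6,6,8,8,8,10],1184),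
  ([10,10,8,6,6,10,10,8,8,8,8,8,8,8,8,8,10,8,8,8,8,10,8,8],1188),
  ([8,12,4,8,8,8,8,8,8,8,8,8,8,8,8,8,8,8,8,8,8,8,8,8],1195),
  ([8,6,8,8,8,6,8,10,8,8,10,8,10,8,8,10,8,8,8,8,10,8,10,8],1197),
  ([8,6,8,8,6,8,8,8,8,8,8,8,8,8,10,10,8,10,8,8,10,8,10,10],1209),
  ([6,6,10,8,6,10,8,8,8,6,8,8,8,8,8,8,8,8,6,6,8,8,8,8],1227),
  ([6,10,8,6,10,10,10,8,8,8,8,8,8,8,8,8,10,8,8,8,8,10,8,8],1242),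
  ([8,8,10,8,8,6,10,6,8,8,6,8,6,8,8,8,10,8,8,8,8,10,8,8],1243),
  ([10,8,8,10,8,8,8,8,10,10,8,10,8,10,8,8,8,8,10,10,8,8,8,8],1251),
  ([10,6,8,10,10,6,10,8,8,8,8,8,8,8,8,8,10,8,8,8,8,10,8,8],1264),
  ([6,10,10,10,6,8,8,10,8,8,10,8,10,8,8,8,8,8,8,8,8,8,8,8],1278),
  ([10,10,6,10,6,8,8,10,8,8,10,8,10,8,8,8,8,8,8,8,8,8,8,8],1283),
  ([10,8,10,10,6,10,8,8,8,8,8,8,8,8,8,6,8,8,8,8,6,8,6,8],1285),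
  ([8,8,8,10,10,8,8,8,8,10,8,8,8,8,10,8,8,10,10,10,8,8,8,10],1289),
  ([8,12,8,8,4,8,8,8,8,8,8,8,8,8,8,8,8,8,8,8,8,8,8,8],1320),
  ([6,6,8,8,8,8,8,8,10,8,8,10,8,10,8,10,8,8,8,8,10,8,10,8],1325),
  ([6,10,10,8,10,6,8,8,8,10,8,8,8,8,8,8,8,8,10,10,8,8,8,8],1334),
  ([10,10,10,8,6,6,8,8,8,10,8,8,8,8,8,8,8,8,10,10,8,8,8,8],1352),
  ([10,8,8,6,8,8,8,8,10,6,8,10,8,10,8,8,8,8,6,6,8,8,8,8],1354),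
  ([4,12,8,8,8,8,8,8,8,8,8,8,8,8,8,8,8,8,8,8,8,8,8,8],1366),
  ([6,10,6,10,8,10,8,8,8,8,8,8,8,8,10,8,8,10,8,8,8,8,8,10],1385),
  ([8,8,10,8,8,10,10,10,8,8,10,8,10,8,8,8,10,8,8,8,8,10,8,8],1394),
  ([6,8,10,10,10,10,8,8,8,8,8,8,8,8,8,6,8,8,8,8,6,8,6,8],1403),
  ([8,8,8,4,8,12,8,8,8,8,8,8,8,8,8,8,8,8,8,8,8,8,8,8],1404),
  ([6,10,6,10,10,8,8,10,8,8,10,8,10,8,8,8,8,8,8,8,8,8,8,8],1405),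
  ([8,8,12,8,12,8,8,8,8,8,8,8,8,8,8,8,8,8,8,8,8,8,8,8],1411),
  ([8,10,8,8,10,8,8,8,8,8,8,8,8,8,10,10,8,10,8,8,10,8,10,10],1425),
  ([10,10,10,8,6,10,8,8,8,6,8,8,8,8,8,8,8,8,6,6,8,8,8,8],1437),
  ([8,8,8,8,10,10,8,6,8,8,6,8,6,8,6,8,8,6,8,8,8,8,8,6],1469),
  ([6,10,8,8,8,8,8,8,6,8,8,6,8,6,8,10,8,8,8,8,10,8,10,8],1490),
  ([10,6,6,8,6,6,8,8,8,10,8,8,8,8,8,8,8,8,10,10,8,8,8,8],1507),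
  ([6,6,8,6,6,10,10,8,8,8,8,8,8,8,8,8,10,8,8,8,8,10,8,8],1522),
  ([10,8,6,6,10,6,8,8,8,8,8,8,8,8,8,6,8,8,8,8,6,8,6,8],1530),
  ([12,8,12,8,8,8,8,8,8,8,8,8,8,8,8,8,8,8,8,8,8,8,8,8],1533),
  ([8,6,10,10,10,10,8,8,6,8,8,6,8,6,8,8,8,8,8,8,8,8,8,8],1535),
  ([8,10,8,6,8,8,8,8,8,10,8,8,8,8,8,6,8,8,10,10,6,8,6,8],1536),
  ([10,6,8,10,10,10,6,8,8,8,8,8,8,8,8,8,6,8,8,8,8,6,8,8],1558),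
  ([8,10,10,10,10,6,8,8,6,8,8,6,8,6,8,8,8,8,8,8,8,8,8,8],1563),
  ([8,8,10,8,10,8,6,8,8,8,8,8,8,8,6,8,6,6,8,8,8,6,8,6],1577),
  ([8,8,12,12,8,8,8,8,8,8,8,8,8,8,8,8,8,8,8,8,8,8,8,8],1587),
  ([6,8,6,10,10,6,8,8,8,8,8,8,8,8,8,6,8,8,8,8,6,8,6,8],1588),
  ([8,10,6,8,8,8,6,8,8,8,8,8,8,8,8,10,6,8,8,8,10,6,10,8],1595),
  ([8,8,10,8,8,10,6,6,8,8,6,8,6,8,8,8,6,8,8,8,8,6,8,8],1597),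
  ([10,8,6,10,6,6,8,8,8,8,8,8,8,8,8,6,8,8,8,8,6,8,6,8],1610),
  ([10,10,6,10,10,8,8,6,8,8,6,8,6,8,8,8,8,8,8,8,8,8,8,8],1638),
  ([10,8,8,6,8,8,8,8,6,10,8,6,8,6,8,8,8,8,10,10,8,8,8,8],1668),
  ([8,4,8,12,8,8,8,8,8,8,8,8,8,8,8,8,8,8,8,8,8,8,8,8],1688),
  ([10,8,8,8,8,10,8,10,10,8,10,10,10,10,8,8,8,8,8,8,8,8,8,8],1691),
  ([8,8,10,6,8,8,10,8,8,6,8,8,8,8,8,8,10,8,6,6,8,10,8,8],1699),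
  ([10,10,6,6,8,10,8,8,8,8,8,8,8,8,10,8,8,10,8,8,8,8,8,10],1703),
  ([10,6,10,8,6,10,8,8,8,10,8,8,8,8,8,8,8,8,10,10,8,8,8,8],1708),
  ([8,6,6,10,10,6,8,8,6,8,8,6,8,6,8,8,8,8,8,8,8,8,8,8],1712),
  ([4,8,8,8,8,12,8,8,8,8,8,8,8,8,8,8,8,8,8,8,8,8,8,8],1714),
  ([6,6,10,10,6,8,8,6,8,8,6,8,6,8,8,8,8,8,8,8,8,8,8,8],1715),
  ([10,8,10,6,10,10,8,8,8,8,8,8,8,8,8,6,8,8,8,8,6,8,6,8],1717),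
  ([8,8,8,8,4,12,8,8,8,8,8,8,8,8,8,8,8,8,8,8,8,8,8,8],1740),
  ([10,10,6,8,6,6,8,8,8,6,8,8,8,8,8,8,8,8,6,6,8,8,8,8],1746),
  ([8,8,8,8,10,6,8,6,8,8,6,8,6,8,10,8,8,10,8,8,8,8,8,10],1752),
  ([8,6,10,10,10,6,8,8,10,8,8,10,8,10,8,8,8,8,8,8,8,8,8,8],1764),
  ([8,8,8,6,8,10,8,6,8,10,6,8,6,8,8,8,8,8,10,10,8,8,8,8],1796),
  ([8,8,6,6,8,8,6,8,8,6,8,8,8,8,8,8,6,8,6,6,8,6,8,8],1802),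
  ([8,8,8,6,10,8,8,8,8,10,8,8,8,8,6,8,8,6,10,10,8,8,8,6],1808),
  ([10,6,6,8,10,10,8,8,8,10,8,8,8,8,8,8,8,8,10,10,8,8,8,8],1839),
  ([10,10,10,6,6,8,8,10,8,8,10,8,10,8,8,8,8,8,8,8,8,8,8,8],1840),
  ([10,8,8,8,8,6,8,6,10,8,6,10,6,10,8,8,8,8,8,8,8,8,8,8],1842),
  ([8,10,6,6,10,10,8,8,10,8,8,10,8,10,8,8,8,8,8,8,8,8,8,8],1843),
  ([8,6,6,8,8,8,10,8,8,8,8,8,8,8,8,10,10,8,8,8,10,10,10,8],1849),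
  ([6,10,10,6,10,8,8,10,8,8,10,8,10,8,8,8,8,8,8,8,8,8,8,8],1870),
  ([8,8,4,8,8,12,8,8,8,8,8,8,8,8,8,8,8,8,8,8,8,8,8,8],1871),
  ([10,6,6,10,8,6,8,8,8,8,8,8,8,8,6,8,8,6,8,8,8,8,8,6],1882),
  ([6,10,8,10,6,10,10,8,8,8,8,8,8,8,8,8,10,8,8,8,8,10,8,8],1898),
  ([6,10,6,6,8,10,8,8,8,8,8,8,8,8,6,8,8,6,8,8,8,8,8,6],1904),
  ([8,8,8,8,10,10,8,10,8,8,10,8,10,8,10,8,8,10,8,8,8,8,8,10],1905),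
  ([6,6,6,8,6,6,8,8,8,6,8,8,8,8,8,8,8,8,6,6,8,8,8,8],1924),
  ([8,6,6,8,8,8,6,8,8,8,8,8,8,8,8,6,6,8,8,8,6,6,6,8],1938),
  ([10,6,6,6,6,8,8,10,8,8,10,8,10,8,8,8,8,8,8,8,8,8,8,8],1947),
  ([8,8,8,12,12,8,8,8,8,8,8,8,8,8,8,8,8,8,8,8,8,8,8,8],1968),
  ([6,8,10,10,6,6,8,8,8,8,8,8,8,8,8,6,8,8,8,8,6,8,6,8],1975),
  ([6,8,6,8,8,8,10,8,10,8,8,10,8,10,8,8,10,8,8,8,8,10,8,8],1981),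
  ([12,8,8,12,8,8,8,8,8,8,8,8,8,8,8,8,8,8,8,8,8,8,8,8],1998),
  ([8,4,8,8,8,4,8,8,8,8,8,8,8,8,8,8,8,8,8,8,8,8,8,8],2020),
  ([6,6,6,6,10,8,8,10,8,8,10,8,10,8,8,8,8,8,8,8,8,8,8,8],2021),
  ([6,6,6,6,8,10,8,8,8,8,8,8,8,8,10,8,8,10,8,8,8,8,8,10],2033),
  ([5,9,9,9,9,9,9,9,9,9,9,9,9,9,9,9,9,9,9,9,9,9,9,9],2048),
  ([7,7,9,7,9,5,7,7,9,9,7,9,7,9,7,9,7,7,9,9,9,7,9,7],2075),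
  ([9,5,7,9,9,7,7,7,9,9,7,9,7,9,9,9,7,9,9,9,9,7,9,9],2084),
  ([5,7,9,9,7,7,7,9,7,7,9,7,9,7,9,9,7,9,7,7,9,7,9,9],2105),
  ([7,7,5,9,7,9,7,7,9,7,7,9,7,9,9,9,7,9,7,7,9,7,9,9],2116),
  ([9,9,11,7,7,9,9,7,7,9,7,7,7,7,9,7,9,9,9,9,7,9,7,9],2128),
  ([9,11,7,7,7,7,9,9,7,9,9,7,9,7,9,9,9,9,9,9,9,9,9,9],2134),
  ([7,11,7,9,9,7,7,7,7,9,7,7,7,7,9,7,7,9,9,9,7,7,7,9],2143),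
  ([7,9,9,11,9,7,7,9,9,9,9,9,9,9,7,7,7,7,9,9,7,7,7,7],2147),
  ([7,7,9,11,9,7,9,7,7,7,7,7,7,7,9,7,9,9,7,7,7,9,7,9],2148),
  ([9,11,9,7,9,9,9,9,9,7,9,9,9,9,9,7,9,9,7,7,7,9,7,9],2151),
  ([7,9,9,11,7,9,7,7,9,9,7,9,7,9,9,7,7,9,9,9,7,7,7,9],2167),
  ([5,9,7,7,7,7,7,7,9,7,7,9,7,9,7,9,7,7,7,7,9,7,9,7],2171),
  ([7,7,7,7,11,7,7,7,7,7,7,7,7,7,7,7,7,7,7,7,7,7,7,7],2174),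
  ([9,7,9,5,9,7,9,7,9,9,7,9,7,9,9,7,9,9,9,9,7,9,7,9],2183),
  ([9,9,11,9,9,7,7,7,9,9,7,9,7,9,9,9,7,9,9,9,9,7,9,9],2191),
  ([9,9,7,11,9,9,7,9,9,7,9,9,9,9,9,9,7,9,7,7,9,7,9,9],2244),
  ([7,9,11,9,7,7,7,7,7,9,7,7,7,7,7,9,7,7,9,9,9,7,9,7],2252),
  ([11,9,9,7,9,9,9,9,7,7,9,7,9,7,9,9,9,9,7,7,9,9,9,9],2275),
  ([9,7,9,11,9,7,7,9,7,9,9,7,9,7,7,9,7,7,9,9,9,7,9,7],2279),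
  ([9,9,9,9,11,9,7,7,7,7,7,7,7,7,9,7,7,9,7,7,7,7,7,9],2282),
  ([7,11,9,9,7,9,7,7,9,7,7,9,7,9,9,9,7,9,7,7,9,7,9,9],2287),
  ([7,9,7,5,9,7,9,9,9,7,9,9,9,9,7,7,9,7,7,7,7,9,7,7],2291),
  ([9,5,7,7,7,9,9,7,7,9,7,7,7,7,9,7,9,9,9,9,7,9,7,9],2299),
  ([5,7,7,7,7,7,9,9,7,9,9,7,9,7,9,9,9,9,9,9,9,9,9,9],2304),
  ([7,9,9,7,7,5,7,7,9,9,7,9,7,9,9,7,7,9,9,9,7,7,7,9],2315),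
  ([7,9,9,7,7,11,9,7,7,7,7,7,7,7,7,9,9,7,7,7,9,9,9,7],2336),
  ([11,9,7,9,7,7,7,7,7,9,7,7,7,7,7,9,7,7,9,9,9,7,9,7],2353),
  ([7,9,5,9,7,7,7,9,9,7,9,9,9,9,9,7,7,9,7,7,7,7,7,9],2368),
  ([7,9,7,9,11,7,7,7,7,9,7,7,7,7,7,9,7,7,9,9,9,7,9,7],2383),
  ([7,7,7,9,7,5,7,9,7,9,9,7,9,7,7,7,7,7,9,9,7,7,7,7],2403),
  ([9,9,7,5,7,7,9,9,7,7,9,7,9,7,9,7,9,9,7,7,7,9,7,9],2407),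
  ([9,11,9,9,7,7,7,9,7,7,9,7,9,7,9,9,7,9,7,7,9,7,9,9],2415),
  ([9,9,9,7,11,9,9,9,9,7,9,9,9,9,7,9,9,7,7,7,9,9,9,7],2423),
  ([9,7,9,11,7,7,9,7,9,7,7,9,7,9,7,7,9,7,7,7,7,9,7,7],2446),
  ([9,7,9,7,7,5,7,7,7,9,7,7,7,7,9,9,7,9,9,9,9,7,9,9],2447),
  ([9,9,7,9,9,5,9,7,7,7,7,7,7,7,7,7,9,7,7,7,7,9,7,7],2470),
  ([9,11,7,9,7,7,7,7,9,9,7,9,7,9,7,7,7,7,9,9,7,7,7,7],2485),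
  ([7,7,9,9,7,11,9,7,7,9,7,7,7,7,7,7,9,7,9,9,7,9,7,7],2488),
  ([9,7,11,7,9,7,7,7,9,7,7,9,7,9,9,7,7,9,7,7,7,7,7,9],2494),
  ([9,5,9,9,7,9,7,7,7,7,7,7,7,7,9,7,7,9,7,7,7,7,7,9],2498),
  ([9,7,5,9,7,7,7,9,7,7,9,7,9,7,9,9,7,9,7,7,9,7,9,9],2500),
  ([9,9,7,7,11,9,9,7,7,9,7,7,7,7,9,7,9,9,9,9,7,9,7,9],2515),
  ([9,5,9,9,9,7,7,9,7,7,9,7,9,7,7,7,7,7,7,7,7,7,7,7],2518),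
  ([9,7,9,9,11,9,9,9,9,9,9,9,9,9,7,7,9,7,9,9,7,9,7,7],2543),
  ([7,7,7,5,9,9,9,7,9,7,7,9,7,9,7,9,9,7,7,7,9,9,9,7],2551),
  ([7,9,7,7,7,5,7,9,7,7,9,7,9,7,7,9,7,7,7,7,9,7,9,7],2555),
  ([9,9,5,9,9,9,9,9,9,9,9,9,9,9,9,9,9,9,9,9,9,9,9,9],2557),
  ([7,9,9,9,7,11,7,9,9,7,9,9,9,9,9,7,7,9,7,7,7,7,7,9],2575),
  ([7,5,7,7,7,9,7,9,7,7,9,7,9,7,7,9,7,7,7,7,9,7,9,7],2591),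
  ([9,9,9,9,7,5,7,7,7,7,7,7,7,7,9,7,7,9,7,7,7,7,7,9],2598),
  ([9,5,9,9,7,7,9,7,9,9,7,9,7,9,7,9,9,7,9,9,9,9,9,7],2599),
  ([7,7,11,9,7,9,7,9,7,9,9,7,9,7,7,7,7,7,9,9,7,7,7,7],2604),
  ([7,9,7,9,5,9,7,9,7,9,9,7,9,7,9,9,7,9,9,9,9,7,9,9],2622),
  ([9,5,7,9,9,9,9,7,7,7,7,7,7,7,7,7,9,7,7,7,7,9,7,7],2626),
  ([9,9,9,7,11,7,7,9,7,9,9,7,9,7,9,7,7,9,9,9,7,7,7,9],2631),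
  ([7,9,9,7,9,5,9,9,7,7,9,7,9,7,9,9,9,9,7,7,9,9,9,9],2641),
  ([7,11,9,9,7,7,9,7,7,9,7,7,7,7,7,7,9,7,9,9,7,9,7,7],2652),
  ([7,7,9,5,9,7,7,9,9,7,9,9,9,9,7,9,7,7,7,7,9,7,9,7],2659),
  ([7,9,5,7,7,7,9,7,7,7,7,7,7,7,7,9,9,7,7,7,9,9,9,7],2671),
  ([7,7,9,5,7,9,7,7,9,7,7,9,7,9,9,9,7,9,7,7,9,7,9,9],2679),
  ([9,9,5,7,9,9,7,7,7,9,7,7,7,7,7,7,7,7,9,9,7,7,7,7],2681),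
  ([9,7,9,9,7,11,7,9,7,7,9,7,9,7,9,9,7,9,7,7,9,7,9,9],2699),
  ([5,7,7,7,7,9,7,9,9,7,9,9,9,9,7,7,7,7,7,7,7,7,7,7],2715),
  ([11,7,9,7,9,9,7,7,9,9,7,9,7,9,7,9,7,7,9,9,9,7,9,7],2729),
  ([9,7,5,9,9,7,9,7,9,9,7,9,7,9,9,7,9,9,9,9,7,9,7,9],2740),
  ([9,9,9,11,7,9,9,9,9,7,9,9,9,9,7,9,9,7,7,7,9,9,9,7],2759),
  ([7,7,9,9,9,5,9,9,7,9,9,7,9,7,9,7,9,9,9,9,7,9,7,9],2761),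
  ([7,7,5,7,7,7,7,9,9,9,9,9,9,9,9,9,7,9,9,9,9,7,9,9],2793),
  ([9,11,7,9,9,7,9,9,7,7,9,7,9,7,7,9,9,7,7,7,9,9,9,7],2799),
  ([7,7,5,9,7,7,9,7,7,9,7,7,7,7,7,7,9,7,9,9,7,9,7,7],2807),
  ([7,5,9,7,9,7,7,9,9,9,9,9,9,9,7,7,7,7,9,9,7,7,7,7],2811),
  ([7,7,7,7,5,9,7,9,7,7,9,7,9,7,9,7,7,9,7,7,7,7,7,9],2831),
  ([7,7,9,9,9,11,7,9,9,7,9,9,9,9,7,9,7,7,7,7,9,7,9,7],2847),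
  ([9,7,9,9,7,5,9,9,9,9,9,9,9,9,7,7,9,7,9,9,7,9,7,7],2851),
  ([9,7,7,5,7,7,7,7,9,9,7,9,7,9,7,7,7,7,9,9,7,7,7,7],2861),
  ([9,7,9,9,9,5,7,7,7,7,7,7,7,7,7,9,7,7,7,7,9,7,9,7],2870),
  ([7,9,7,7,11,9,7,9,7,7,9,7,9,7,7,9,7,7,7,7,9,7,9,7],2871),
  ([9,7,9,7,11,9,7,7,7,9,7,7,7,7,9,9,7,9,9,9,9,7,9,9],2883),
  ([11,9,7,7,7,9,7,9,7,7,9,7,9,7,7,9,7,7,7,7,9,7,9,7],2889),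
  ([9,5,9,7,7,7,7,9,7,9,9,7,9,7,9,7,7,9,9,9,7,7,7,9],2927),
  ([7,9,9,5,7,7,7,9,9,7,9,9,9,9,9,7,7,9,7,7,7,7,7,9],2931),
  ([5,9,9,7,9,9,7,7,7,9,7,7,7,7,7,7,7,7,9,9,7,7,7,7],2948),
  ([9,7,7,11,9,7,7,7,9,7,7,9,7,9,9,7,7,9,7,7,7,7,7,9],2957),
  ([11,7,9,7,9,7,9,7,7,7,7,7,7,7,9,7,9,9,7,7,7,9,7,9],2986),
  ([11,9,9,7,9,7,7,9,9,9,9,9,9,9,7,7,7,7,9,9,7,7,7,7],2989),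
  ([7,7,7,9,11,9,7,9,7,9,9,7,9,7,7,7,7,7,9,9,7,7,7,7],2991),
  ([7,9,9,9,9,5,7,7,9,7,7,9,7,9,7,7,7,7,7,7,7,7,7,7],2994),
  ([5,7,7,9,9,7,9,9,7,7,9,7,9,7,7,9,9,7,7,7,9,9,9,7],3001),
  ([7,7,7,9,9,11,7,7,7,9,7,7,7,7,9,7,7,9,9,9,7,7,7,9],3003),
  ([7,9,9,7,11,9,7,7,9,9,7,9,7,9,9,7,7,9,9,9,7,7,7,9],3015),
  ([7,5,9,9,9,7,9,7,7,9,7,7,7,7,9,9,9,9,9,9,9,9,9,9],3021),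
  ([9,9,9,5,9,9,9,9,9,9,9,9,9,9,9,9,9,9,9,9,9,9,9,9],3022),
  ([11,7,7,9,7,9,7,9,7,9,9,7,9,7,7,7,7,7,9,9,7,7,7,7],3025),
  ([7,9,7,11,9,9,9,7,9,9,7,9,7,9,7,7,9,7,9,9,7,9,7,7],3063),
  ([9,9,9,7,5,9,7,7,7,9,7,7,7,7,7,7,7,7,9,9,7,7,7,7],3066),
  ([7,7,9,9,5,9,9,9,7,9,9,7,9,7,9,7,9,9,9,9,7,9,7,9],3077),
  ([9,9,9,11,9,7,9,7,9,7,7,9,7,9,9,9,9,9,7,7,9,9,9,9],3103),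
  ([9,7,7,7,7,5,7,9,9,7,9,9,9,9,7,7,7,7,7,7,7,7,7,7],3113),
  ([7,9,9,9,11,9,9,9,7,9,9,7,9,7,7,9,9,7,9,9,9,9,9,7],3133),
  ([11,9,9,9,7,9,9,9,7,9,9,7,9,7,7,9,9,7,9,9,9,9,9,7],3139),
  ([9,7,9,9,11,7,7,9,7,7,9,7,9,7,9,9,7,9,7,7,9,7,9,9],3143),
  ([7,7,7,5,7,7,9,9,9,7,9,9,9,9,9,9,9,9,7,7,9,9,9,9],3146),
  ([9,7,7,5,9,9,7,9,9,9,9,9,9,9,9,7,7,9,9,9,7,7,7,9],3164),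
  ([9,7,5,9,7,9,9,9,9,9,9,9,9,9,7,7,9,7,9,9,7,9,7,7],3180),
  ([9,7,5,9,9,9,7,7,7,7,7,7,7,7,7,9,7,7,7,7,9,7,9,7],3193),
  ([5,9,9,9,9,7,7,9,7,7,9,7,9,7,7,7,7,7,7,7,7,7,7,7],3200),
  ([9,9,9,7,7,11,7,9,7,9,9,7,9,7,9,7,7,9,9,9,7,7,7,9],3211),
  ([5,9,9,9,7,9,7,7,7,7,7,7,7,7,9,7,7,9,7,7,7,7,7,9],3220),
  ([9,7,7,9,11,7,7,7,9,9,7,9,7,9,7,7,7,7,9,9,7,7,7,7],3229),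
  ([5,7,7,7,9,9,9,7,7,9,7,7,7,7,7,9,9,7,9,9,9,9,9,7],3261),
  ([9,9,9,5,7,7,9,7,9,9,7,9,7,9,7,9,9,7,9,9,9,9,9,7],3263),
  ([9,7,7,7,5,9,9,7,7,9,7,7,7,7,7,9,9,7,9,9,9,9,9,7],3267),
  ([9,11,9,9,7,9,9,9,9,9,9,9,9,9,7,7,9,7,9,9,7,9,7,7],3271),
  ([7,5,7,7,7,7,9,9,9,9,9,9,9,9,9,7,9,9,9,9,7,9,7,9],3282),
  ([9,9,7,5,9,9,9,7,7,7,7,7,7,7,7,7,9,7,7,7,7,9,7,7],3290),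
  ([7,9,7,9,9,5,7,9,7,9,9,7,9,7,9,9,7,9,9,9,9,7,9,9],3314),
  ([7,7,11,9,9,7,7,7,7,9,7,7,7,7,9,7,7,9,9,9,7,7,7,9],3316),
  ([7,9,5,9,9,9,7,7,9,7,7,9,7,9,7,7,7,7,7,7,7,7,7,7],3325),
  ([7,7,7,7,11,9,9,7,9,9,7,9,7,9,9,9,9,9,9,9,9,9,9,9],3326),
  ([11,7,7,9,9,7,7,7,7,9,7,7,7,7,9,7,7,9,9,9,7,7,7,9],3337),
  ([7,7,9,7,11,9,9,9,7,7,9,7,9,7,7,7,9,7,7,7,7,9,7,7],3340),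
  ([9,11,7,7,9,7,7,7,9,7,7,9,7,9,9,7,7,9,7,7,7,7,7,9],3349),
  ([9,9,7,9,7,5,7,9,9,9,9,9,9,9,7,9,7,7,9,9,9,7,9,7],3352),
  ([9,7,11,9,7,7,7,7,9,9,7,9,7,9,7,7,7,7,9,9,7,7,7,7],3358),
  ([9,7,7,9,7,5,9,7,7,7,7,7,7,7,9,9,9,9,7,7,9,9,9,9],3359),
  ([7,11,9,9,9,9,9,9,7,9,9,7,9,7,9,7,9,9,9,9,7,9,7,9],3373),
  ([9,9,9,7,9,5,7,7,7,9,7,7,7,7,7,7,7,7,9,9,7,7,7,7],3382),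
  ([9,7,7,11,7,9,7,9,9,7,9,9,9,9,7,7,7,7,7,7,7,7,7,7],3413),
  ([9,5,9,9,9,9,9,9,9,9,9,9,9,9,9,9,9,9,9,9,9,9,9,9],3414),
  ([9,9,5,9,7,9,7,7,7,7,7,7,7,7,9,7,7,9,7,7,7,7,7,9],3433),
  ([11,7,9,7,7,9,9,9,7,7,9,7,9,7,7,7,9,7,7,7,7,9,7,7],3442),
  ([9,9,5,9,9,7,7,9,7,7,9,7,9,7,7,7,7,7,7,7,7,7,7,7],3453),
  ([9,7,7,7,11,7,9,9,7,9,9,7,9,7,9,9,9,9,9,9,9,9,9,9],3454),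
  ([5,7,9,9,9,9,7,7,7,7,7,7,7,7,7,9,7,7,7,7,9,7,9,7],3460),
  ([7,7,5,9,9,9,9,9,7,9,9,7,9,7,9,7,9,9,9,9,7,9,7,9],3462),
  ([5,7,9,9,7,9,9,9,9,9,9,9,9,9,7,7,9,7,9,9,7,9,7,7],3473),
  ([9,7,9,7,9,11,7,9,7,9,9,7,9,7,7,9,7,7,9,9,9,7,9,7],3483),
  ([5,9,7,7,7,9,9,7,7,9,7,7,7,7,9,7,9,9,9,9,7,9,7,9],3501),
  ([5,9,7,7,9,7,9,9,7,9,9,7,9,7,7,7,9,7,9,9,7,9,7,7],3513),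
  ([9,9,9,9,7,11,9,7,9,9,7,9,7,9,7,9,9,7,9,9,9,9,9,7],3523),
  ([7,7,9,9,11,9,7,7,9,7,7,9,7,9,9,9,7,9,7,7,9,7,9,9],3527),
  ([7,5,9,9,7,7,7,9,9,7,9,9,9,9,9,7,7,9,7,7,7,7,7,9],3563),
  ([9,7,9,9,5,9,7,7,7,7,7,7,7,7,7,9,7,7,7,7,9,7,9,7],3578),
  ([7,7,7,7,7,5,9,7,9,9,7,9,7,9,9,9,9,9,9,9,9,9,9,9],3634),
  ([5,9,9,7,7,7,7,9,7,9,9,7,9,7,9,7,7,9,9,9,7,7,7,9],3641),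
  ([11,9,7,9,9,9,7,9,7,9,9,7,9,7,9,9,7,9,9,9,9,7,9,9],3648),
  ([7,9,5,7,7,9,7,7,9,9,7,9,7,9,9,7,7,9,9,9,7,7,7,9],3652),
  ([7,9,7,11,7,7,9,9,9,9,9,9,9,9,9,7,9,9,9,9,7,9,7,9],3658),
  ([7,9,5,7,9,7,7,9,9,9,9,9,9,9,7,7,7,7,9,9,7,7,7,7],3664),
  ([9,9,11,9,7,9,7,9,9,9,9,9,9,9,7,9,7,7,9,9,9,7,9,7],3671),
  ([9,7,9,5,7,9,9,9,9,9,9,9,9,9,7,7,9,7,9,9,7,9,7,7],3679),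
  ([9,11,9,7,7,9,7,7,7,9,7,7,7,7,9,9,7,9,9,9,9,7,9,9],3691),
  ([7,5,7,9,7,9,9,7,9,7,7,9,7,9,9,7,9,9,7,7,7,9,7,9],3711),
  ([7,11,7,9,7,9,7,9,7,9,9,7,9,7,7,7,7,7,9,9,7,7,7,7],3719),
  ([7,7,11,7,9,9,7,9,7,7,9,7,9,7,9,7,7,9,7,7,7,7,7,9],3724),
  ([9,9,9,9,9,5,9,9,9,9,9,9,9,9,9,9,9,9,9,9,9,9,9,9],3762),
  ([7,7,9,11,7,9,9,9,7,7,9,7,9,7,7,7,9,7,7,7,7,9,7,7],3772),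
  ([9,7,5,7,7,9,7,7,7,9,7,7,7,7,9,9,7,9,9,9,9,7,9,9],3776),
  ([9,11,7,9,9,9,7,9,9,9,9,9,9,9,9,7,7,9,9,9,7,7,7,9],3780),
  ([9,7,7,11,7,7,9,9,7,9,9,7,9,7,9,9,9,9,9,9,9,9,9,9],3790),
  ([9,5,9,7,9,9,7,7,7,9,7,7,7,7,7,7,7,7,9,9,7,7,7,7],3794),
  ([7,9,11,9,7,9,9,7,9,7,7,9,7,9,9,7,9,9,7,7,7,9,7,9],3796),
  ([7,7,9,7,5,9,7,7,9,9,7,9,7,9,7,9,7,7,9,9,9,7,9,7],3799),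
  ([7,9,9,9,5,7,9,7,7,9,7,7,7,7,9,9,9,9,9,9,9,9,9,9],3813),
  ([9,7,7,7,9,11,7,7,9,7,7,9,7,9,9,7,7,9,7,7,7,7,7,9],3825),
  ([7,11,9,7,9,7,9,7,7,7,7,7,7,7,9,7,9,9,7,7,7,9,7,9],3836),
  ([7,9,7,5,7,7,7,7,7,9,7,7,7,7,7,9,7,7,9,9,9,7,9,7],3839),
  ([11,7,9,9,7,7,9,7,7,9,7,7,7,7,7,7,9,7,9,9,7,9,7,7],3850),
  ([7,7,9,9,7,5,7,7,9,7,7,9,7,9,9,9,7,9,7,7,9,7,9,9],3851),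
  ([5,9,7,9,9,9,9,7,7,7,7,7,7,7,7,7,9,7,7,7,7,9,7,7],3860),
  ([7,5,7,9,9,9,7,9,7,9,9,7,9,7,9,9,7,9,9,9,9,7,9,9],3862),
  ([5,7,9,7,9,7,7,9,7,9,9,7,9,7,7,9,7,7,9,9,9,7,9,7],3881),
  ([5,7,9,7,7,9,7,7,7,9,7,7,7,7,9,9,7,9,9,9,9,7,9,9],3901),
  ([7,7,7,11,7,9,9,7,9,9,7,9,7,9,9,9,9,9,9,9,9,9,9,9],3918),
  ([7,7,5,7,9,9,7,7,9,9,7,9,7,9,7,9,7,7,9,9,9,7,9,7],3924),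
  ([9,7,9,7,5,7,7,9,7,9,9,7,9,7,7,9,7,7,9,9,9,7,9,7],3927),
  ([9,9,9,5,7,9,7,7,7,7,7,7,7,7,9,7,7,9,7,7,7,7,7,9],3930),
  ([9,7,11,7,7,9,7,9,9,7,9,9,9,9,7,7,7,7,7,7,7,7,7,7],3942),
  ([9,9,7,9,5,9,9,7,7,7,7,7,7,7,7,7,9,7,7,7,7,9,7,7],3946),
  ([5,9,9,9,7,7,9,7,9,9,7,9,7,9,7,9,9,7,9,9,9,9,9,7],3953),
  ([7,7,9,9,11,7,9,7,7,9,7,7,7,7,7,7,9,7,9,9,7,9,7,7],3956),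
  ([7,9,7,9,7,11,7,7,7,9,7,7,7,7,7,9,7,7,9,9,9,7,9,7],3971),
  ([5,7,7,9,9,9,7,9,9,9,9,9,9,9,9,7,7,9,9,9,7,7,7,9],3986),
  ([7,7,9,5,9,9,9,9,7,9,9,7,9,7,9,7,9,9,9,9,7,9,7,9],4021),
  ([9,7,5,7,7,7,9,7,9,7,7,9,7,9,7,7,9,7,7,7,7,9,7,7],4029),
  ([9,9,7,9,9,11,7,7,9,9,7,9,7,9,9,9,7,9,9,9,9,7,9,9],4032),
  ([9,9,5,7,7,7,7,9,7,9,9,7,9,7,9,7,7,9,9,9,7,7,7,9],4036),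
  ([7,9,9,7,5,7,7,9,9,9,9,9,9,9,7,7,7,7,9,9,7,7,7,7],4051),
  ([9,9,7,9,11,9,7,9,9,9,9,9,9,9,7,9,7,7,9,9,9,7,9,7],4052),
  ([9,7,7,9,5,9,7,9,9,9,9,9,9,9,9,7,7,9,9,9,7,7,7,9],4076),
  ([7,11,9,7,9,9,7,7,9,9,7,9,7,9,7,9,7,7,9,9,9,7,9,7],4095)]

/-- the form on the coordinates -/
def qData : List (Bool × List Bool) := [
  (true,[false,false,true,true,false,false,true,true,true,false,false]),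
  (true,[false,false,false,true,false,true,true,true,false,true]),
  (false,[true,false,false,false,false,false,false,false,false]),
  (true,[true,true,true,false,false,false,false,true]),
  (false,[true,false,false,false,false,false,false]),
  (false,[false,false,false,true,false,false]),
  (false,[true,false,false,false,false]),
  (false,[false,false,false,true]),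
  (false,[false,false,false]),
  (false,[false,true]),
  (false,[true]),
  (false,[])]

/-- the coordinates of the short vectors as one number -/
def shortMask : Nat := 52219543671351784824373334936940580521482386798725553974643033909367756036002028478047894070356728763779239697262016804307905782710238827514455563086773860479909876546861267943144156321536752344990661583112651895060690846277236202231436581637522667447519553627056668304020702772777175750472728591786379337066481123911732376319179747371003724446018043824059035906444255583915759745817578241542526353453979160905800915690495804804684575584659491158656680116546680077025398499362844149829754018315070340991432533656527312873175498824404930665932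8648587246285148974823634118482903597296629563047742931918900064440105842098717146487196564371826810227187718833182134779711361350594600432367647580053382315258422439885016333833452457471206707067214573886571340535265920511236705798424517926671105805624425066419672191468597583435396949997331898004218065085741003541317285529176427404566622556222391047339516859933802882871952388096103133575015125997197961416151920238495233461050422696227673328306012742937643559859136393565708724740715325437262993631536806004563707758409089658704347655732725569819936939737466551706480349239371935979804889598534688933499934307835704752595386018172858833711914896996403512989366870029541609132873258893312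

end CfsgLib.MonsterCent13.Three.Data
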